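import Groth.Agent.S2049
import Groth.Agent.CAlgReg.GlobalDim

/-!
# Projective dimension over local rings with regular fibre over a valuation ring
-/

universe u

open IsLocalRing CategoryTheory
open Groth.Agent.CAlgReg

set_option linter.style.haveILetI false
set_option maxSynthPendingDepth 4

namespace Groth.Agent.FibrePd

section Minimal

variable (A : Type u) [CommRing A] [IsLocalRing A] (M : Type u) [AddCommGroup M] [Module A M]
  [Module.Finite A M]

/-- A surjection from a finite free module with kernel inside the maximal ideal. -/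
theorem exists_minimal : ∃ (r : ℕ) (g : (Fin r → A) →ₗ[A] M), Function.Surjective g ∧
    ∀ x, g x = 0 → ∀ i, x i ∈ maximalIdeal A := by
  classical
  letI : Field (A ⧸ maximalIdeal A) := Ideal.Quotient.field _
  let N := M ⧸ (maximalIdeal A • ⊤ : Submodule A M)
  haveI : Module.Finite A N := Module.Finite.of_surjective (Submodule.mkQ _) (Submodule.mkQ_surjective _)
  haveI : Module.Finite (A ⧸ maximalIdeal A) N := Module.Finite.of_restrictScalars_finite A _ _
  let b := Module.finBasis (A ⧸ maximalIdeal A) N
  choose v hv using fun i => Submodule.mkQ_surjective (maximalIdeal A • ⊤ : Submodule A M) (b i)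
  let g := Fintype.linearCombination A v
  have hg : ∀ x, Submodule.mkQ (maximalIdeal A • ⊤ : Submodule A M) (g x) =
      ∑ i, (Ideal.Quotient.mk (maximalIdeal A) (x i)) • b i := fun x => by
    simp only [g, Fintype.linearCombination_apply, map_sum, map_smul, hv]
    exact Finset.sum_congr rfl fun i _ =>
      (algebraMap_smul (A ⧸ maximalIdeal A) (x i) (b i)).symm
  refine ⟨_, g, ?_, fun x hx i => ?_⟩
  · rw [← LinearMap.range_eq_top, eq_top_iff]
    refine Submodule.le_of_le_smul_of_le_jacobson_bot (Module.Finite.fg_top)
      (IsLocalRing.maximalIdeal_le_jacobson ⊥) fun m _ => ?_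
    choose c hc using fun i => Ideal.Quotient.mk_surjective
      (b.repr (Submodule.mkQ (maximalIdeal A • ⊤ : Submodule A M) m) i)
    have : m - g c ∈ (maximalIdeal A • ⊤ : Submodule A M) := by
      rw [← Submodule.Quotient.mk_eq_zero, Submodule.Quotient.mk_sub, sub_eq_zero,
        ← Submodule.mkQ_apply, ← Submodule.mkQ_apply, hg, ← b.sum_repr (Submodule.mkQ _ m)]
      exact Finset.sum_congr rfl fun i _ => by rw [hc]
    exact Submodule.mem_sup.2 ⟨g c, LinearMap.mem_range_self _ _, m - g c, this, by abel⟩
  · have h0 := hg x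
    rw [hx, map_zero] at h0
    exact Ideal.Quotient.eq_zero_iff_mem.1
      (Fintype.linearIndependent_iff.1 b.linearIndependent _ h0.symm i)

end Minimal

variable (V : Type u) [CommRing V] [IsDomain V] [ValuationRing V]
  (A : Type u) [CommRing A] [IsLocalRing A] [Algebra V A] [IsLocalHom (algebraMap V A)]
  [Algebra.EssFiniteType V A]

/-- The ideal of the closed fibre. -/
def fib : Ideal A := (maximalIdeal V).map (algebraMap V A)

theorem fib_le : fib V A ≤ maximalIdeal A :=
  Ideal.map_le_iff_le_comap.2 fun _ hv h => hv ((isUnit_map_iff (algebraMap V A) _).1 h)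

section Mem

variable {V A} {M : Type u} [AddCommGroup M] [Module A M] [Module V M] [IsScalarTower V A M]

theorem exists_smul_eq {x : M} (hx : x ∈ (fib V A • ⊤ : Submodule A M)) :
    ∃ c ∈ maximalIdeal V, ∃ y : M, x = c • y := by
  have hadd : ∀ c ∈ maximalIdeal V, ∀ c' ∈ maximalIdeal V, ∀ y y' : M,
      ∃ e ∈ maximalIdeal V, ∃ z : M, c • y + c' • y' = e • z := by
    intro c hc c' hc' y y'
    rcases (ValuationRing.iff_dvd_total.1 ‹ValuationRing V›).total c c' with ⟨d, rfl⟩ | ⟨d, rfl⟩
    · exact ⟨c, hc, y + d • y', by rw [smul_add, mul_smul]⟩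
    · exact ⟨c', hc', d • y + y', by rw [smul_add, mul_smul]⟩
  refine Submodule.smul_induction_on hx (fun a ha m _ => ?_) fun a b ha hb => ?_
  · clear hx
    induction ha using Submodule.span_induction generalizing m with
    | mem a ha =>
      obtain ⟨v, hv, rfl⟩ := ha
      exact ⟨v, hv, m, algebraMap_smul A v m⟩
    | zero => exact ⟨0, zero_mem _, 0, by simp⟩
    | add a b _ _ ha hb =>
      obtain ⟨c, hc, y, hy⟩ := ha m trivial
      obtain ⟨c', hc', y', hy'⟩ := hb m trivial
      rw [add_smul, hy, hy']
      exact hadd c hc c' hc' y y'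
    | smul r a _ ha =>
      obtain ⟨c, hc, y, hy⟩ := ha (r • m) trivial
      exact ⟨c, hc, y, by rw [← hy, smul_eq_mul, mul_comm, mul_smul]⟩
  · obtain ⟨c, hc, y, rfl⟩ := ha
    obtain ⟨c', hc', y', rfl⟩ := hb
    exact hadd c hc c' hc' y y'

theorem smul_mem_fib {c : V} (hc : c ∈ maximalIdeal V) (y : M) :
    c • y ∈ (fib V A • ⊤ : Submodule A M) := by
  rw [← algebraMap_smul A c y]
  exact Submodule.smul_mem_smul (Ideal.mem_map_of_mem _ hc) trivial

end Mem

omit [IsLocalHom (algebraMap V A)] [Algebra.EssFiniteType V A] [IsLocalRing A] in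
theorem flat_submodule [Module.Flat V A] {r : ℕ} (K : Submodule A (Fin r → A)) : Module.Flat V K := by
  rw [Module.Flat.flat_iff_torsion_eq_bot_of_isBezout, eq_bot_iff]
  haveI : Module.Flat V (Fin r → A) := Module.Flat.trans V A (Fin r → A)
  rintro x ⟨⟨c, hc⟩, hx⟩
  have h1 : c • (x : Fin r → A) = 0 := congrArg Subtype.val hx
  exact Subtype.ext (Module.Flat.isSMulRegular_of_isRegular (M := Fin r → A)
    (IsRegular.of_ne_zero (nonZeroDivisors.ne_zero hc)) (by simpa using h1))

/-- The kernel of a map between finite free modules is finitely generated. -/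
theorem fg_ker_free [Module.Flat V A] {p q : ℕ} (α : (Fin p → A) →ₗ[A] (Fin q → A)) :
    (LinearMap.ker α).FG := by
  haveI : Module.Flat V (LinearMap.range α) := flat_submodule V A _
  haveI : Module.FinitePresentation A (LinearMap.range α) := S2049.result (A := V)
  have := Module.FinitePresentation.fg_ker α.rangeRestrict α.surjective_rangeRestrict
  rwa [LinearMap.ker_rangeRestrict] at this

/-- Finite `V`-flat modules: projective dimension is bounded by that of the closed fibre. -/
theorem pdLT_of_fibre [Module.Flat V A] : ∀ (k : ℕ) (M : Type u) [AddCommGroup M] [Module A M] [Module V M]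
    [IsScalarTower V A M] [Module.Finite A M] [Module.Flat V M],
    PdLT (A ⧸ fib V A) (M ⧸ (fib V A • ⊤ : Submodule A M)) (k + 1) → PdLT A M (k + 1) := by
  intro k
  induction k with
  | zero =>
    intro M _ _ _ _ _ _ h
    haveI : Module.FinitePresentation A M := S2049.result (A := V)
    haveI : Module.Projective (A ⧸ fib V A) (M ⧸ (fib V A • ⊤ : Submodule A M)) :=
      (IsProjective.iff_projective _).2 (projective_iff_hasProjectiveDimensionLT_one.2 h)
    obtain ⟨r, g, hg, hmin⟩ := exists_minimal A M
    have hKfg : (LinearMap.ker g).FG := Module.FinitePresentation.fg_ker g hg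
    let gb : ((Fin r → A) ⧸ (fib V A • ⊤ : Submodule A (Fin r → A))) →ₗ[A ⧸ fib V A]
        (M ⧸ (fib V A • ⊤ : Submodule A M)) :=
      LinearMap.extendScalarsOfSurjective (S := A ⧸ fib V A) Ideal.Quotient.mk_surjective
        (Submodule.mapQ _ _ g (Submodule.smul_top_le_comap_smul_top _ g))
    have hgb : Function.Surjective gb := fun y => by
      obtain ⟨y, rfl⟩ := Submodule.Quotient.mk_surjective _ y
      obtain ⟨x, rfl⟩ := hg y
      exact ⟨Submodule.Quotient.mk x, rfl⟩
    obtain ⟨s, hs⟩ := Module.projective_lifting_property gb LinearMap.id hgb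
    -- the kernel is contained in `maximalIdeal • kernel`
    have hle : LinearMap.ker g ≤ maximalIdeal A • LinearMap.ker g := by
      intro x hx
      let X : (Fin r → A) ⧸ (fib V A • ⊤ : Submodule A (Fin r → A)) := Submodule.Quotient.mk x
      have hX : ∀ y : Fin r → A, ∃ k' ∈ LinearMap.ker g,
          (Submodule.Quotient.mk y - s (gb (Submodule.Quotient.mk y)) :
            (Fin r → A) ⧸ (fib V A • ⊤ : Submodule A (Fin r → A))) = Submodule.Quotient.mk k' := by
        intro y
        obtain ⟨z, hz⟩ := Submodule.Quotient.mk_surjective _ (s (gb (Submodule.Quotient.mk y)))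
        have h1 : gb (Submodule.Quotient.mk y - Submodule.Quotient.mk z) = 0 := by
          rw [map_sub, hz, show gb (s (gb (Submodule.Quotient.mk y))) = gb (Submodule.Quotient.mk y) from
            LinearMap.congr_fun hs _, sub_self]
        have h2 : g (y - z) ∈ (fib V A • ⊤ : Submodule A M) :=
          (Submodule.Quotient.mk_eq_zero _).1 h1
        obtain ⟨c, hc, w, hw⟩ := exists_smul_eq h2
        obtain ⟨u, rfl⟩ := hg w
        refine ⟨y - z - c • u, by rw [LinearMap.mem_ker, map_sub, hw, LinearMap.map_smul_of_tower, sub_self], ?_⟩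
        rw [← hz, ← Submodule.Quotient.mk_sub, eq_comm, Submodule.Quotient.eq]
        rw [sub_sub_cancel_left]
        exact neg_mem (smul_mem_fib hc u)
      -- expand `x` in the standard basis
      choose k' hk' hk'eq using fun i => hX (Pi.single i 1)
      have h3 : X = Submodule.Quotient.mk (∑ i, x i • k' i) := by
        rw [show Submodule.Quotient.mk (∑ i, x i • k' i) =
          ∑ i, x i • (Submodule.Quotient.mk (k' i) : (Fin r → A) ⧸ (fib V A • ⊤ : Submodule A (Fin r → A))) by
          simp [← Submodule.mkQ_apply, map_sum]]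
        simp only [← hk'eq, smul_sub, Finset.sum_sub_distrib]
        have e1 : ∑ i, x i • (Submodule.Quotient.mk (Pi.single i (1 : A)) :
            (Fin r → A) ⧸ (fib V A • ⊤ : Submodule A (Fin r → A))) = X := by
          simp only [X, ← Submodule.mkQ_apply, ← map_smul, ← map_sum]
          congr 1
          funext j
          simp [Finset.sum_apply, Pi.single_apply]
        have e2 : ∑ i, x i • s (gb (Submodule.Quotient.mk (Pi.single i (1 : A)))) = s (gb X) := by
          rw [← e1, map_sum, map_sum]
          exact Finset.sum_congr rfl fun i _ => by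
            rw [LinearMap.map_smul_of_tower, LinearMap.map_smul_of_tower]
        rw [e1, e2, show gb X = 0 by
          show Submodule.Quotient.mk (g x) = 0
          rw [LinearMap.mem_ker.1 hx]; rfl, map_zero, sub_zero]
      have h4 : x - ∑ i, x i • k' i ∈ (fib V A • ⊤ : Submodule A (Fin r → A)) :=
        (Submodule.Quotient.eq _).1 h3
      obtain ⟨c, hc, w, hw⟩ := exists_smul_eq h4
      rcases eq_or_ne c 0 with hc0 | hc0
      · rw [hc0, zero_smul, sub_eq_zero] at hw
        rw [hw]
        exact sum_mem fun i _ => Submodule.smul_mem_smul (hmin x hx i) (hk' i)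
      have hwK : w ∈ LinearMap.ker g := by
        have h5 : g (x - ∑ i, x i • k' i) = 0 := by
            rw [map_sub, LinearMap.mem_ker.1 hx, map_sum, zero_sub, neg_eq_zero]
            exact Finset.sum_eq_zero fun i _ => by rw [map_smul, LinearMap.mem_ker.1 (hk' i), smul_zero]
        rw [hw, LinearMap.map_smul_of_tower] at h5
        exact Module.Flat.isSMulRegular_of_isRegular (M := M) (IsRegular.of_ne_zero hc0) (by simpa using h5)
      rw [← sub_add_cancel x (∑ i, x i • k' i), hw]
      refine add_mem ?_ (sum_mem fun i _ => Submodule.smul_mem_smul (hmin x hx i) (hk' i))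
      rw [← algebraMap_smul A c w]
      exact Submodule.smul_mem_smul (fib_le V A (Ideal.mem_map_of_mem _ hc)) hwK
    have hK := Submodule.eq_bot_of_le_smul_of_le_jacobson_bot _ _ hKfg hle (IsLocalRing.maximalIdeal_le_jacobson ⊥)
    haveI : Module.Projective A M :=
      Module.Projective.of_equiv (LinearEquiv.ofBijective g ⟨LinearMap.ker_eq_bot.1 hK, hg⟩)
    exact pdLT_one
  | succ k ih =>
    intro M _ _ _ _ _ _ h
    haveI : Module.FinitePresentation A M := S2049.result (A := V)
    obtain ⟨r, g, hg, -⟩ := exists_minimal A M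
    let K := LinearMap.ker g
    haveI : Module.Finite A K := Module.Finite.iff_fg.2 (Module.FinitePresentation.fg_ker g hg)
    haveI : Module.Flat V K := flat_submodule V A K
    let gb : ((Fin r → A) ⧸ (fib V A • ⊤ : Submodule A (Fin r → A))) →ₗ[A ⧸ fib V A]
        (M ⧸ (fib V A • ⊤ : Submodule A M)) :=
      LinearMap.extendScalarsOfSurjective (S := A ⧸ fib V A) Ideal.Quotient.mk_surjective
        (Submodule.mapQ _ _ g (Submodule.smul_top_le_comap_smul_top _ g))
    let ib : (K ⧸ (fib V A • ⊤ : Submodule A K)) →ₗ[A ⧸ fib V A]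
        ((Fin r → A) ⧸ (fib V A • ⊤ : Submodule A (Fin r → A))) :=
      LinearMap.extendScalarsOfSurjective (S := A ⧸ fib V A) Ideal.Quotient.mk_surjective
        (Submodule.mapQ _ _ K.subtype (Submodule.smul_top_le_comap_smul_top _ K.subtype))
    have hgb : Function.Surjective gb := fun y => by
      obtain ⟨y, rfl⟩ := Submodule.Quotient.mk_surjective _ y
      obtain ⟨x, rfl⟩ := hg y
      exact ⟨Submodule.Quotient.mk x, rfl⟩
    have hib : Function.Injective ib := by
      refine (injective_iff_map_eq_zero _).2 fun y hy => ?_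
      obtain ⟨y, rfl⟩ := Submodule.Quotient.mk_surjective _ y
      obtain ⟨c, hc, w, hw⟩ := exists_smul_eq ((Submodule.Quotient.mk_eq_zero _).1 hy)
      rcases eq_or_ne c 0 with rfl | hc0
      · rw [zero_smul] at hw
        rw [show y = 0 from Subtype.ext hw, Submodule.Quotient.mk_zero]
      · have h5 : g (c • w) = 0 := by rw [← hw]; exact y.2
        rw [LinearMap.map_smul_of_tower] at h5
        have hwK : w ∈ K := Module.Flat.isSMulRegular_of_isRegular (M := M)
          (IsRegular.of_ne_zero hc0) (by simpa using h5)
        rw [Submodule.Quotient.mk_eq_zero, show y = c • (⟨w, hwK⟩ : K) from Subtype.ext hw]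
        exact smul_mem_fib hc _
    have hex : Function.Exact ib gb := by
      intro y
      obtain ⟨y, rfl⟩ := Submodule.Quotient.mk_surjective _ y
      constructor
      · intro hy
        obtain ⟨c, hc, w, hw⟩ := exists_smul_eq ((Submodule.Quotient.mk_eq_zero _).1 hy)
        obtain ⟨u, rfl⟩ := hg w
        refine ⟨Submodule.Quotient.mk ⟨y - c • u, by
          rw [LinearMap.mem_ker, map_sub, hw, LinearMap.map_smul_of_tower, sub_self]⟩,
          (Submodule.Quotient.eq _).2 ?_⟩
        rw [Submodule.subtype_apply, sub_sub_cancel_left]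
        exact neg_mem (smul_mem_fib hc u)
      · rintro ⟨z, hz⟩
        obtain ⟨z, rfl⟩ := Submodule.Quotient.mk_surjective _ z
        rw [← hz]
        show Submodule.Quotient.mk (g z.1) = 0
        rw [LinearMap.mem_ker.1 z.2]; rfl
    haveI : Module.Projective (A ⧸ fib V A) ((Fin r → A) ⧸ (fib V A • ⊤ : Submodule A (Fin r → A))) :=
      Module.Projective.of_equiv
        ((TensorProduct.quotTensorEquivQuotSMul (Fin r → A) (fib V A)).extendScalarsOfSurjective
          Ideal.Quotient.mk_surjective)
    exact pdLT_right K.subtype g Subtype.val_injective (LinearMap.exact_subtype_ker_map g) hg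
      (ih K (pdLT_left ib gb hib hex hgb h))

variable {n : ℕ} [IsRegularLocalRing (A ⧸ fib V A)] (hn : ringKrullDim (A ⧸ fib V A) = n)

include hn

/-- `pd ≤ n` for finite flat modules. -/
theorem pdLT_flat [Module.Flat V A] (M : Type u) [AddCommGroup M] [Module A M] [Module V M]
    [IsScalarTower V A M] [Module.Finite A M] [Module.Flat V M] : PdLT A M (n + 1) := by
  haveI : Module.Finite A (M ⧸ (fib V A • ⊤ : Submodule A M)) :=
    Module.Finite.of_surjective (Submodule.mkQ _) (Submodule.mkQ_surjective _)
  haveI : Module.Finite (A ⧸ fib V A) (M ⧸ (fib V A • ⊤ : Submodule A M)) :=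
    Module.Finite.of_restrictScalars_finite A _ _
  exact pdLT_of_fibre V A n M (pdLT_of_finite n _ hn _)

/-- `pd ≤ n + 1` for finitely presented modules. -/
theorem pdLT_fp [Module.Flat V A] (M : Type u) [AddCommGroup M] [Module A M]
    [Module.FinitePresentation A M] : PdLT A M (n + 2) := by
  obtain ⟨r, g, hg⟩ := Module.Finite.exists_fin' A M
  haveI : Module.Finite A (LinearMap.ker g) :=
    Module.Finite.iff_fg.2 (Module.FinitePresentation.fg_ker g hg)
  haveI : Module.Flat V (LinearMap.ker g) := flat_submodule V A _
  exact pdLT_right _ g Subtype.val_injective (LinearMap.exact_subtype_ker_map g) hg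
    (pdLT_flat V A hn _)

/-- `pd ≤ n - 1` for reflexive modules. -/
theorem pdLT_reflexive [Module.Flat V A] (M : Type u) [AddCommGroup M] [Module A M]
    [Module.FinitePresentation A M] [Module.IsReflexive A M] : PdLT A M (n - 1 + 1) := by
  classical
  -- the dual is finitely generated
  obtain ⟨r, g, hg⟩ := Module.Finite.exists_fin' A M
  obtain ⟨s, ρ, hρ⟩ := Submodule.fg_iff_exists_fin_generating_family.1 (Module.FinitePresentation.fg_ker g hg)
  let β : (Fin r → A) →ₗ[A] (Fin s → A) := LinearMap.pi fun j =>
    Fintype.linearCombination A (fun i => ρ j i)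
  have hβ : ∀ v j, β v j = ∑ i, v i * ρ j i := fun v j => by
    simp [β, Fintype.linearCombination_apply]
  let E : Module.Dual A M →ₗ[A] (Fin r → A) :=
    LinearMap.pi fun i => LinearMap.applyₗ (g (Pi.single i 1))
  have hEv : ∀ (φ : Module.Dual A M) (v : Fin r → A), φ (g v) = ∑ i, v i * E φ i := fun φ v => by
    conv_lhs => rw [show v = ∑ i, v i • (Pi.single i (1 : A) : Fin r → A) by
      funext j; simp [Finset.sum_apply, Pi.single_apply]]
    simp [E]
  have hE : Function.Injective E := fun φ ψ h => LinearMap.ext fun m => by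
    obtain ⟨v, rfl⟩ := hg m
    rw [hEv, hEv, h]
  have hrange : LinearMap.range E = LinearMap.ker β := by
    refine le_antisymm ?_ fun v hv => ?_
    · rintro _ ⟨φ, rfl⟩
      refine LinearMap.mem_ker.2 (funext fun j => ?_)
      have h0 : g (ρ j) = 0 := LinearMap.mem_ker.1 (hρ ▸ Submodule.subset_span ⟨j, rfl⟩)
      rw [hβ, Pi.zero_apply, ← map_zero φ, ← h0, hEv]
      exact Finset.sum_congr rfl fun i _ => mul_comm _ _
    · let φ0 := Fintype.linearCombination A v
      have hker : LinearMap.ker g ≤ LinearMap.ker φ0 := by
        rw [← hρ, Submodule.span_le]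
        rintro _ ⟨j, rfl⟩
        have := congrFun (LinearMap.mem_ker.1 hv) j
        rw [hβ, Pi.zero_apply] at this
        rw [SetLike.mem_coe, LinearMap.mem_ker, ← this]
        simp [φ0, Fintype.linearCombination_apply, mul_comm]
      refine ⟨(LinearMap.ker g).liftQ φ0 hker ∘ₗ (LinearMap.quotKerEquivOfSurjective g hg).symm.toLinearMap, ?_⟩
      funext i
      show (LinearMap.ker g).liftQ φ0 hker
        ((LinearMap.quotKerEquivOfSurjective g hg).symm (g (Pi.single i 1))) = v i
      rw [show (LinearMap.quotKerEquivOfSurjective g hg).symm (g (Pi.single i 1)) =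
        Submodule.Quotient.mk (Pi.single i 1) from (LinearEquiv.symm_apply_eq _).2 rfl, Submodule.liftQ_apply]
      simp [φ0, Fintype.linearCombination_apply, Pi.single_apply]
  haveI : Module.Finite A (Module.Dual A M) := by
    haveI : Module.Finite A (LinearMap.range E) := by
      rw [hrange]
      exact Module.Finite.iff_fg.2 (fg_ker_free V A β)
    exact Module.Finite.equiv (LinearEquiv.ofInjective E hE).symm
  -- `M` is a second syzygy
  obtain ⟨p, h, hh⟩ := Module.Finite.exists_fin' A (Module.Dual A M)
  have hKfg : (LinearMap.ker h).FG := by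
    have := fg_ker_free V A (E.comp h)
    rwa [LinearMap.ker_comp, LinearMap.ker_eq_bot.2 hE, Submodule.comap_bot] at this
  obtain ⟨q, σ, hσ⟩ := Submodule.fg_iff_exists_fin_generating_family.1 hKfg
  let α : (Fin p → A) →ₗ[A] (Fin q → A) := LinearMap.pi fun j =>
    Fintype.linearCombination A (fun i => σ j i)
  have hα : ∀ v j, α v j = ∑ i, v i * σ j i := fun v j => by
    simp [α, Fintype.linearCombination_apply]
  let F : M →ₗ[A] (Fin p → A) := LinearMap.pi fun i => h (Pi.single i 1)
  have hFv : ∀ (m : M) (v : Fin p → A), h v m = ∑ i, v i * F m i := fun m v => by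
    conv_lhs => rw [show v = ∑ i, v i • (Pi.single i (1 : A) : Fin p → A) by
      funext j; simp [Finset.sum_apply, Pi.single_apply]]
    simp [F, LinearMap.sum_apply]
  have hF : Function.Injective F := fun m m' he => by
    apply (Module.bijective_dual_eval A M).1
    refine LinearMap.ext fun φ => ?_
    obtain ⟨v, rfl⟩ := hh φ
    show h v m = h v m'
    rw [hFv, hFv, he]
  have hFex : Function.Exact F α := fun v => by
    constructor
    · intro hv
      let ψ0 := Fintype.linearCombination A v
      have hker : LinearMap.ker h ≤ LinearMap.ker ψ0 := by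
        rw [← hσ, Submodule.span_le]
        rintro _ ⟨j, rfl⟩
        have := congrFun hv j
        rw [hα, Pi.zero_apply] at this
        rw [SetLike.mem_coe, LinearMap.mem_ker, ← this]
        simp [ψ0, Fintype.linearCombination_apply, mul_comm]
      obtain ⟨m, hm⟩ := (Module.bijective_dual_eval A M).2
        ((LinearMap.ker h).liftQ ψ0 hker ∘ₗ (LinearMap.quotKerEquivOfSurjective h hh).symm.toLinearMap)
      refine ⟨m, funext fun i => ?_⟩
      have h1 := LinearMap.congr_fun hm (h (Pi.single i 1))
      show h (Pi.single i 1) m = v i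
      refine h1.trans ?_
      show (LinearMap.ker h).liftQ ψ0 hker
        ((LinearMap.quotKerEquivOfSurjective h hh).symm (h (Pi.single i 1))) = v i
      rw [show (LinearMap.quotKerEquivOfSurjective h hh).symm (h (Pi.single i 1)) =
        Submodule.Quotient.mk (Pi.single i 1) from (LinearEquiv.symm_apply_eq _).2 rfl, Submodule.liftQ_apply]
      simp [ψ0, Fintype.linearCombination_apply, Pi.single_apply]
    · rintro ⟨m, rfl⟩
      funext j
      have h0 : h (σ j) = 0 := LinearMap.mem_ker.1 (hσ ▸ Submodule.subset_span ⟨j, rfl⟩)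
      have h1 := hFv m (σ j)
      rw [h0, LinearMap.zero_apply] at h1
      rw [hα, Pi.zero_apply, h1]
      exact Finset.sum_congr rfl fun i _ => mul_comm _ _
  obtain _ | n' := n
  · letI : Module V M := Module.compHom M (algebraMap V A)
    haveI : IsScalarTower V A M := IsScalarTower.of_algebraMap_smul fun _ _ => rfl
    haveI : Module.Flat V M := by
      haveI := flat_submodule V A (LinearMap.range F)
      exact Module.Flat.of_linearEquiv ((LinearEquiv.ofInjective F hF).restrictScalars V)
    exact pdLT_flat V A hn M
  · haveI : Module.FinitePresentation A ((Fin q → A) ⧸ LinearMap.range α) :=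
      Module.finitePresentation_of_surjective (LinearMap.range α).mkQ (Submodule.mkQ_surjective _)
        (by rw [Submodule.ker_mkQ]; exact Submodule.fg_range α)
    have hC := pdLT_fp V A hn ((Fin q → A) ⧸ LinearMap.range α)
    have hQ : PdLT A (LinearMap.range α) (n' + 1 + 1) :=
      pdLT_left (LinearMap.range α).subtype (LinearMap.range α).mkQ Subtype.val_injective
        (LinearMap.exact_subtype_mkQ _) (Submodule.mkQ_surjective _) hC
    refine pdLT_left F α.rangeRestrict hF ?_ α.surjective_rangeRestrict hQ
    intro v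
    rw [← hFex v]
    exact ⟨fun h => congrArg Subtype.val h, fun h => Subtype.ext h⟩

end Groth.Agent.FibrePd
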