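import Groth.Agent.FibrePd.Basic

/-!
# Localisation step: local rings of flat finitely presented algebras over valuation rings
-/

universe u

open IsLocalRing
open Groth.Agent.CAlgReg

set_option linter.style.haveILetI false
set_option maxSynthPendingDepth 4

namespace Groth.Agent.FibrePd

theorem valuationRing_atPrime (V : Type u) [CommRing V] [IsDomain V] [ValuationRing V] (p : Ideal V)
    [p.IsPrime] : ValuationRing (Localization.AtPrime p) := by
  refine ValuationRing.iff_dvd_total.2 ⟨fun a b => ?_⟩
  obtain ⟨a, sa, rfl⟩ := IsLocalization.exists_mk'_eq p.primeCompl a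
  obtain ⟨b, sb, rfl⟩ := IsLocalization.exists_mk'_eq p.primeCompl b
  rcases (ValuationRing.iff_dvd_total.1 ‹ValuationRing V›).total a b with ⟨c, rfl⟩ | ⟨c, rfl⟩
  · refine Or.inl ⟨IsLocalization.mk' _ (c * sa) sb, ?_⟩
    rw [← IsLocalization.mk'_mul]
    exact IsLocalization.mk'_eq_of_eq (by push_cast; ring)
  · refine Or.inr ⟨IsLocalization.mk' _ (c * sb) sa, ?_⟩
    rw [← IsLocalization.mk'_mul]
    exact IsLocalization.mk'_eq_of_eq (by push_cast; ring)

variable (V : Type u) [CommRing V] [IsDomain V] [ValuationRing V]
    (B : Type u) [CommRing B] [Algebra V B] [Module.Flat V B] [Algebra.FiniteType V B]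
    (q : Ideal B) [q.IsPrime] (n : ℕ)
    (hreg : IsRegularLocalRing (Localization.AtPrime q ⧸ Ideal.map (algebraMap V (Localization.AtPrime q)) (Ideal.comap (algebraMap V B) q)))
    (hn : ringKrullDim (Localization.AtPrime q ⧸ Ideal.map (algebraMap V (Localization.AtPrime q)) (Ideal.comap (algebraMap V B) q)) = n)
    (M : Type u) [AddCommGroup M] [Module (Localization.AtPrime q) M]
    [Module.FinitePresentation (Localization.AtPrime q) M]

include hreg hn

set_option maxHeartbeats 1000000 in
theorem bounds :
    PdLT (Localization.AtPrime q) M (n + 2) ∧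
    (∀ [Module V M] [IsScalarTower V (Localization.AtPrime q) M] [Module.Flat V M],
      PdLT (Localization.AtPrime q) M (n + 1)) ∧
    (∀ [Module.IsReflexive (Localization.AtPrime q) M], PdLT (Localization.AtPrime q) M (n - 1 + 1)) := by
  let p := q.under V
  letI := Localization.AtPrime.algebraOfLiesOver p q
  let V' := Localization.AtPrime p
  let A := Localization.AtPrime q
  haveI : ValuationRing V' := valuationRing_atPrime V p
  haveI : IsLocalHom (algebraMap V' A) := inferInstance
  haveI : IsScalarTower V V' A := inferInstance
  haveI : Algebra.EssFiniteType V' A := Algebra.EssFiniteType.of_comp V V' A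
  haveI : Module.Flat V A := Module.Flat.trans V B A
  haveI : Module.Flat V' A := (Module.flat_iff_of_isLocalization V' p.primeCompl A).2 inferInstance
  have hfib : fib V' A = Ideal.map (algebraMap V A) (Ideal.comap (algebraMap V B) q) := by
    rw [fib, ← Localization.AtPrime.map_eq_maximalIdeal, Ideal.map_map,
      ← IsScalarTower.algebraMap_eq V V' A]
  haveI : IsRegularLocalRing (A ⧸ fib V' A) := hfib ▸ hreg
  have hn' : ringKrullDim (A ⧸ fib V' A) = n := hfib ▸ hn
  refine ⟨pdLT_fp V' A hn' M, ?_, ?_⟩
  · intro _ _ _
    letI : Module V' M := Module.compHom M (algebraMap V' A)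
    haveI : IsScalarTower V' A M := IsScalarTower.of_algebraMap_smul fun _ _ => rfl
    haveI : IsScalarTower V V' M := IsScalarTower.of_algebraMap_smul fun v m => by
      show algebraMap V' A (algebraMap V V' v) • m = v • m
      rw [← IsScalarTower.algebraMap_apply, algebraMap_smul]
    haveI : Module.Flat V' M := (Module.flat_iff_of_isLocalization V' p.primeCompl M).2 inferInstance
    exact pdLT_flat V' A hn' M
  · intro _
    exact pdLT_reflexive V' A hn' M

end Groth.Agent.FibrePd
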